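import Mathlib.RingTheory.Valuation.ValuationSubring
import Mathlib.RingTheory.AdjoinRoot
import Mathlib.Algebra.CharP.Frobenius
import Mathlib.RingTheory.Nilpotent.GeometricallyReduced
import Mathlib.FieldTheory.IsAlgClosed.AlgebraicClosure
import Groth.Agent.EtRamTowerLib.Dominate
import Groth.Prelude.Def_EtRam

/-! The valuation theoretic comparison of `z ^ p - ε z = a` with `θ ^ p = a`. -/

set_option autoImplicit false
set_option linter.style.haveILetI false
universe u

noncomputable section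

namespace InsepSepLib

open scoped TensorProduct

variable {p : ℕ} (hp : p.Prime) {M Ω : Type u} [Field M] [Field Ω] [ExpChar Ω p] (ι : M →+* Ω) (W : ValuationSubring Ω)
  (π a : M) (z : Ω) (N s t : ℕ)

/-- The hypotheses. -/
structure Close : Prop where
  pi0 : π ≠ 0
  pilt : W.valuation (ι π) < 1
  root : z ^ p = ι a + ι π ^ N * z
  bound : ∀ c : Fin p → M, (∑ i : Fin p, ι (c i) ^ p * ι a ^ (i : ℕ)) ∈ W → ∀ i, ι π ^ s * ι (c i) ∈ W
  small : ι π ^ t * ι a ∈ W
  large : (s + 1) * p + t * p + 1 ≤ N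

variable {ι W π a z N s t}

/-- Evaluation at the separable root. -/
def evalRoot (ι : M →+* Ω) (z : Ω) (c : Fin p → M) : Ω := ∑ i : Fin p, ι (c i) * z ^ (i : ℕ)

/-- The common `p`-th power. -/
def powVal (ι : M →+* Ω) (a : M) (c : Fin p → M) : Ω := ∑ i : Fin p, ι (c i) ^ p * ι a ^ (i : ℕ)

include hp

theorem Close.sub_lt (h : Close (p := p) ι W π a z N s t) (c : Fin p → M) (hc : ∃ i, c i ≠ 0) :
    W.valuation (evalRoot ι z c ^ p - powVal ι a c) < W.valuation (powVal ι a c) := by
  classical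
  let q := W.valuation (ι π)
  have hq0 : 0 < q := zero_lt_iff.2 ((map_ne_zero _).2 ((map_ne_zero _).2 h.pi0))
  obtain ⟨i₀, -, hmax⟩ := Finset.univ.exists_max_image (fun i => W.valuation (ι (c i))) (Finset.univ_nonempty_iff.2 ⟨⟨0, hp.pos⟩⟩)
  obtain ⟨j, hj⟩ := hc
  have hc0 : 0 < W.valuation (ι (c i₀)) := lt_of_lt_of_le (zero_lt_iff.2 ((map_ne_zero _).2 ((map_ne_zero _).2 hj))) (hmax j (Finset.mem_univ j))
  have hci : c i₀ ≠ 0 := fun e => hc0.ne' (by rw [e, map_zero, map_zero])
  -- lower bound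
  have hlow : W.valuation (ι (c i₀)) ^ p * q ^ ((s + 1) * p) < W.valuation (powVal ι a c) := by
    by_contra hle
    push Not at hle
    let d := c i₀ * π ^ (s + 1)
    have hd : ι d ≠ 0 := (map_ne_zero _).2 (mul_ne_zero hci (pow_ne_zero _ h.pi0))
    have h1 := h.bound (fun i => c i / d) ((W.valuation_le_one_iff _).1 (by
      have e : ∑ i : Fin p, ι (c i / d) ^ p * ι a ^ (i : ℕ) = powVal ι a c / ι d ^ p := by
        simp only [powVal, Finset.sum_div, map_div₀, div_pow]
        exact Finset.sum_congr rfl fun i _ => by ring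
      rw [e, map_div₀, div_le_one₀ (by rw [map_pow]; exact pow_pos (zero_lt_iff.2 ((map_ne_zero _).2 hd)) _)]
      refine hle.trans_eq ?_
      simp only [d, q, map_mul, map_pow, mul_pow, ← pow_mul])) i₀
    have h2 := (W.valuation_le_one_iff _).2 h1
    simp only [d, map_mul, map_div₀, map_pow, pow_succ] at h2
    have : W.valuation (ι π) ^ s * (W.valuation (ι (c i₀)) / (W.valuation (ι (c i₀)) * (W.valuation (ι π) ^ s * W.valuation (ι π)))) =
        q⁻¹ := by
      show _ = (W.valuation (ι π))⁻¹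
      have hπq : W.valuation (ι π) ≠ 0 := hq0.ne'
      field_simp
    rw [this] at h2
    exact not_le.2 ((one_lt_inv₀ hq0).2 h.pilt) h2
  -- upper bound
  let R := max 1 (W.valuation (ι a))
  have hR : (1 : W.ValueGroup) ≤ R := le_max_left _ _
  have hqN : q ^ N ≤ 1 := pow_le_one₀ zero_le h.pilt.le
  have hz : W.valuation z ≤ R := by
    by_contra hgt
    push Not at hgt
    have h1 : W.valuation (z ^ p) ≤ W.valuation z := by
      rw [h.root]
      refine W.valuation.map_add_le ((le_max_right _ _).trans hgt.le) ?_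
      rw [map_mul, map_pow]
      exact mul_le_of_le_one_left zero_le hqN
    rw [map_pow] at h1
    have h1' : W.valuation z ^ 1 < W.valuation z ^ p := pow_lt_pow_right₀ (lt_of_le_of_lt hR hgt) hp.one_lt
    rw [pow_one] at h1'
    exact not_le.2 h1' h1
  have hterm : ∀ k : ℕ, k < p → W.valuation ((z ^ p) ^ k - ι a ^ k) ≤ q ^ N * R ^ p := by
    intro k hk
    rw [← geom_sum₂_mul, map_mul, show z ^ p - ι a = ι π ^ N * z by rw [h.root]; ring, map_mul, map_pow]
    have hzp : W.valuation (z ^ p) ≤ R := by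
      rw [h.root]
      refine W.valuation.map_add_le (le_max_right _ _) ?_
      rw [map_mul, map_pow]
      exact (mul_le_of_le_one_left zero_le hqN).trans hz
    have hg : W.valuation (∑ i ∈ Finset.range k, (z ^ p) ^ i * ι a ^ (k - 1 - i)) ≤ R ^ (k - 1) := by
      refine Valuation.map_sum_le _ fun i hi => ?_
      have := Finset.mem_range.1 hi
      rw [map_mul, map_pow W.valuation (z ^ p), map_pow W.valuation (ι a), map_pow W.valuation z, show R ^ (k - 1) = R ^ i * R ^ (k - 1 - i) by rw [← pow_add]; congr 1; omega]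
      exact mul_le_mul' (pow_le_pow_left₀ zero_le ((map_pow W.valuation z p).symm.trans_le hzp) i) (pow_le_pow_left₀ zero_le (le_max_right _ _) _)
    calc W.valuation (∑ i ∈ Finset.range k, (z ^ p) ^ i * ι a ^ (k - 1 - i)) * (q ^ N * W.valuation z)
        ≤ R ^ (k - 1) * (q ^ N * R) := mul_le_mul' hg (mul_le_mul' le_rfl hz)
      _ = q ^ N * R ^ ((k - 1) + 1) := by rw [pow_succ]; ac_rfl
      _ ≤ q ^ N * R ^ p := mul_le_mul' le_rfl (pow_le_pow_right₀ hR (by have := hp.pos; omega))
  have hRq : q ^ t * R ≤ 1 := by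
    rcases max_choice 1 (W.valuation (ι a)) with he | he
    · rw [show R = 1 from he, mul_one]; exact pow_le_one₀ zero_le h.pilt.le
    · rw [show R = W.valuation (ι a) from he]
      have := (W.valuation_le_one_iff _).2 h.small
      rwa [map_mul, map_pow] at this
  have hdiff : evalRoot ι z c ^ p - powVal ι a c = ∑ i : Fin p, ι (c i) ^ p * ((z ^ p) ^ (i : ℕ) - ι a ^ (i : ℕ)) := by
    rw [evalRoot, powVal, sum_pow_char, ← Finset.sum_sub_distrib]
    refine Finset.sum_congr rfl fun i _ => ?_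
    rw [mul_pow, ← pow_mul z, mul_comm (i : ℕ) p, pow_mul, mul_sub]
  rw [hdiff]
  refine lt_of_le_of_lt (Valuation.map_sum_le _ fun i _ => ?_) hlow
  rw [map_mul, map_pow]
  refine mul_le_mul' (pow_le_pow_left₀ zero_le (hmax i (Finset.mem_univ i)) _) ((hterm i i.2).trans ?_)
  calc q ^ N * R ^ p ≤ q ^ ((s + 1) * p + t * p) * R ^ p :=
        mul_le_mul' (pow_le_pow_of_le_one zero_le h.pilt.le (by have := h.large; omega)) le_rfl
    _ = q ^ ((s + 1) * p) * (q ^ t * R) ^ p := by rw [pow_add, mul_pow, ← pow_mul, mul_assoc]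
    _ ≤ q ^ ((s + 1) * p) := mul_le_of_le_one_right zero_le (pow_le_one₀ zero_le hRq)

theorem Close.valuation_eq (h : Close (p := p) ι W π a z N s t) (c : Fin p → M) :
    W.valuation (evalRoot ι z c) ^ p = W.valuation (powVal ι a c) := by
  by_cases hc : ∃ i, c i ≠ 0
  · rw [← map_pow]
    exact Valuation.map_eq_of_sub_lt _ (h.sub_lt hp c hc)
  · push Not at hc
    simp [evalRoot, powVal, hc, zero_pow hp.ne_zero]

theorem Close.sub_lt_one (h : Close (p := p) ι W π a z N s t) (c : Fin p → M) (hle : W.valuation (evalRoot ι z c) ≤ 1) :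
    W.valuation (evalRoot ι z c ^ p - powVal ι a c) < 1 := by
  by_cases hc : ∃ i, c i ≠ 0
  · refine lt_of_lt_of_le (h.sub_lt hp c hc) ?_
    rw [← h.valuation_eq hp c]
    exact pow_le_one₀ zero_le hle
  · push Not at hc
    simp [evalRoot, powVal, hc, zero_pow hp.ne_zero]

omit hp in
/-- Geometric reducedness along an isomorphism of base fields and an injection. -/
theorem geometricallyReduced_transport {k k' A A' : Type u} [Field k] [Field k'] [Field A] [Field A'] [Algebra k A]
    [Algebra k' A'] [Algebra.IsGeometricallyReduced k A] (e₀ : k' ≃+* k) (e : A' →+* A)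
    (he : ∀ r, e (algebraMap k' A' r) = algebraMap k A (e₀ r)) : Algebra.IsGeometricallyReduced k' A' := by
  let C := AlgebraicClosure k
  let _ : Algebra k' k := e₀.toRingHom.toAlgebra
  let _ : Algebra k' A := ((algebraMap k A).comp e₀.toRingHom).toAlgebra
  have : IsScalarTower k' k A := IsScalarTower.of_algebraMap_eq fun _ => rfl
  have hcs : TensorProduct.CompatibleSMul k' k C A := ⟨fun r x y => by
    obtain ⟨r, rfl⟩ := e₀.surjective r
    show ((algebraMap k' k r) • x) ⊗ₜ[k'] y = x ⊗ₜ[k'] ((algebraMap k' k r) • y)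
    rw [algebraMap_smul, algebraMap_smul, TensorProduct.smul_tmul]⟩
  have : IsReduced (C ⊗[k] A) := (Algebra.isGeometricallyReduced_field_iff k A).1 ‹_›
  have hred : IsReduced (C ⊗[k'] A) := by
    refine isReduced_of_injective (Algebra.TensorProduct.mapOfCompatibleSMul k k' k C A).toRingHom ?_
    exact (TensorProduct.equivOfCompatibleSMul k k' k C A).injective
  have halg : Algebra.IsAlgebraic k' k := ⟨fun x => by
    obtain ⟨y, rfl⟩ := e₀.surjective x
    exact isAlgebraic_algebraMap y⟩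
  have : Algebra.IsAlgebraic k' C := Algebra.IsAlgebraic.trans k' k C
  let j : AlgebraicClosure k' →ₐ[k'] C := IsAlgClosed.lift
  let e' : A' →ₐ[k'] A := { e with commutes' := he }
  rw [Algebra.isGeometricallyReduced_field_iff]
  refine isReduced_of_injective (Algebra.TensorProduct.map j e') ?_
  exact TensorProduct.map_injective_of_flat_flat j.toLinearMap e'.toLinearMap j.toRingHom.injective e.injective

/-- The solution property is inherited by the separable root. -/
theorem Close.solution (h : Close (p := p) ι W π a z N s t) {Ω₂ K₂ K₃ : Type u} [Field Ω₂] [Field K₂] [Field K₃]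
    (F : Ω₂ →+* M) (j₂ : K₂ →+* Ω₂) (j₃ : K₃ →+* Ω)
    -- every element is compared through its coefficients
    (hcoef' : ∀ x : Ω, ∃ (c : Fin p → M) (y : Ω₂), evalRoot ι z c = x ∧ ι (F y) = powVal ι a c)
    (hK₂ : ∀ k : K₂, ∃ (c : Fin p → M) (k' : K₃), evalRoot ι z c = j₃ k' ∧ ι (F (j₂ k)) = powVal ι a c)
    (hK₃ : ∀ k' : K₃, ∃ (c : Fin p → M) (k : K₂), evalRoot ι z c = j₃ k' ∧ ι (F (j₂ k)) = powVal ι a c)
    (hP : letI : Algebra (((W.comap ι).comap F).comap j₂) ((W.comap ι).comap F) := (EtRam.inclOfComap _ j₂).toAlgebra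
      EtRam.IsWeaklyUnramified (((W.comap ι).comap F).comap j₂) ((W.comap ι).comap F) ∧
        @Algebra.IsGeometricallyReduced (IsLocalRing.ResidueField (((W.comap ι).comap F).comap j₂))
          (IsLocalRing.ResidueField ((W.comap ι).comap F)) _ _
          (IsLocalRing.ResidueField.map (EtRam.inclOfComap _ j₂)).toAlgebra) :
    letI : Algebra (W.comap j₃) W := (EtRam.inclOfComap W j₃).toAlgebra
    EtRam.IsWeaklyUnramified (W.comap j₃) W ∧
      @Algebra.IsGeometricallyReduced (IsLocalRing.ResidueField (W.comap j₃)) (IsLocalRing.ResidueField W) _ _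
        (IsLocalRing.ResidueField.map (EtRam.inclOfComap W j₃)).toAlgebra := by
  let W₂ := (W.comap ι).comap F
  letI : Algebra (W.comap j₃) W := (EtRam.inclOfComap W j₃).toAlgebra
  letI : Algebra (W₂.comap j₂) W₂ := (EtRam.inclOfComap W₂ j₂).toAlgebra
  obtain ⟨hwu, hgr⟩ := hP
  have hm₂ : ∀ x : W₂, x ∈ IsLocalRing.maximalIdeal W₂ ↔ W.valuation (ι (F (x : Ω₂))) < 1 := by
    intro x
    constructor
    · intro hx
      refine lt_of_le_of_ne ((W.valuation_le_one_iff _).2 x.2) fun h1 => ?_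
      have hne : (x : Ω₂) ≠ 0 := fun e => by simp [e] at h1
      have hinv : ((x : Ω₂))⁻¹ ∈ W₂ := (W.valuation_le_one_iff _).1 (by rw [map_inv₀, map_inv₀, map_inv₀, h1, inv_one])
      exact hx (IsUnit.of_mul_eq_one (⟨_, hinv⟩ : W₂) (Subtype.ext (mul_inv_cancel₀ hne)))
    · intro hlt hu
      obtain ⟨y, hy⟩ := isUnit_iff_exists_inv.1 hu
      have h1 : W.valuation (ι (F (x : Ω₂))) * W.valuation (ι (F (y : Ω₂))) = 1 := by
        rw [← map_mul, ← map_mul, ← map_mul, show (x : Ω₂) * y = 1 from congrArg Subtype.val hy, map_one, map_one, map_one]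
      exact (mul_lt_one_of_nonneg_of_lt_one_left zero_le hlt ((W.valuation_le_one_iff _).2 y.2)).ne h1
  have hmem₃ : ∀ (x : Ω) (c : Fin p → M), evalRoot ι z c = x →
      (W.valuation (powVal ι a c) ≤ 1 ↔ W.valuation x ≤ 1) ∧ (W.valuation (powVal ι a c) < 1 ↔ W.valuation x < 1) := by
    rintro x c rfl
    rw [← h.valuation_eq hp c]
    exact ⟨pow_le_one_iff_of_nonneg zero_le hp.ne_zero, pow_lt_one_iff_of_nonneg zero_le hp.ne_zero⟩
  constructor
  · refine le_antisymm (Ideal.map_le_iff_le_comap.2 fun b hb hu => hb (isUnit_of_map_unit (EtRam.inclOfComap W j₃) b hu)) ?_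
    intro x hx
    obtain ⟨c, y, hcx, hy⟩ := hcoef' (x : Ω)
    have hylt : W.valuation (ι (F y)) < 1 := by rw [hy, (hmem₃ _ c hcx).2]; exact (W.valuation_lt_one_iff x).1 hx
    let y' : W₂ := ⟨y, (W.valuation_le_one_iff _).1 hylt.le⟩
    have hy' : y' ∈ (IsLocalRing.maximalIdeal (W₂.comap j₂)).map (algebraMap (W₂.comap j₂) W₂) := by
      rw [show (IsLocalRing.maximalIdeal (W₂.comap j₂)).map (algebraMap (W₂.comap j₂) W₂) = IsLocalRing.maximalIdeal W₂ from hwu]
      exact (hm₂ y').2 hylt
    obtain ⟨k, hk, d, hd⟩ := EtRamTowerLib.exists_dvd_of_mem_map _ _ hy'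
    obtain ⟨ck, k', hk', hkp⟩ := hK₂ (k : K₂)
    have hklt : W.valuation (ι (F (j₂ (k : K₂)))) < 1 := (hm₂ (EtRam.inclOfComap W₂ j₂ k)).1 (fun hu => hk (isUnit_of_map_unit (EtRam.inclOfComap W₂ j₂) k hu))
    have hk'lt : W.valuation (j₃ k') < 1 := by
      rw [← (hmem₃ _ ck hk').2, ← hkp]; exact hklt
    have hle : W.valuation (x : Ω) ^ p ≤ W.valuation (j₃ k') ^ p := by
      rw [← hcx, ← hk', h.valuation_eq hp, h.valuation_eq hp, ← hy, ← hkp,
        show y = j₂ (k : K₂) * (d : Ω₂) from congrArg Subtype.val hd, map_mul, map_mul, map_mul]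
      exact mul_le_of_le_one_right zero_le ((W.valuation_le_one_iff _).2 d.2)
    have hle' : W.valuation (x : Ω) ≤ W.valuation (j₃ k') := (pow_le_pow_iff_left₀ zero_le zero_le hp.ne_zero).1 hle
    by_cases h0 : j₃ k' = 0
    · rw [h0, map_zero, nonpos_iff_eq_zero, map_eq_zero] at hle'
      rw [show x = 0 from Subtype.ext hle']
      exact zero_mem _
    have hq : (x : Ω) / j₃ k' ∈ W := (W.valuation_le_one_iff _).1 (by rw [map_div₀]; exact div_le_one_of_le₀ hle' zero_le)
    let k'' : W.comap j₃ := ⟨k', (W.valuation_le_one_iff _).1 hk'lt.le⟩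
    have hk'' : k'' ∈ IsLocalRing.maximalIdeal (W.comap j₃) := fun hu =>
      hk'lt.ne ((W.valuation_eq_one_iff (EtRam.inclOfComap W j₃ k'')).1 (hu.map _))
    rw [show x = ⟨_, hq⟩ * algebraMap (W.comap j₃) W k'' from Subtype.ext (by
      show (x : Ω) = (x : Ω) / j₃ k' * j₃ k'
      field_simp)]
    exact Ideal.mul_mem_left _ _ (Ideal.mem_map_of_mem _ hk'')
  · -- residue fields
    let g : W₂ →+* W := ((ι.comp F).comp W₂.subtype).codRestrict W.toSubring fun x => x.2
    have : IsLocalHom g := ⟨fun x hx => by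
      by_contra hn
      exact ((W.valuation_lt_one_iff (g x)).2 ((hm₂ x).1 hn)) hx⟩
    let κ₂ := IsLocalRing.ResidueField W₂
    let κ₃ := IsLocalRing.ResidueField W
    let β₂ : κ₂ →+* κ₃ := IsLocalRing.ResidueField.map g
    let k₂ := IsLocalRing.ResidueField (W₂.comap j₂)
    let k₃ := IsLocalRing.ResidueField (W.comap j₃)
    let α₂ : k₂ →+* κ₂ := IsLocalRing.ResidueField.map (EtRam.inclOfComap W₂ j₂)
    let α₃ : k₃ →+* κ₃ := IsLocalRing.ResidueField.map (EtRam.inclOfComap W j₃)
    letI : Algebra k₂ κ₂ := α₂.toAlgebra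
    letI : Algebra k₃ κ₃ := α₃.toAlgebra
    have : Algebra.IsGeometricallyReduced k₂ κ₂ := hgr
    have hchar : ExpChar κ₃ p := by
      rcases ExpChar.exists (R := Ω) with ⟨q, hq⟩
      have : CharP Ω p := by
        obtain ⟨q', hq'⟩ := CharP.exists Ω
        rcases CharP.char_is_prime_or_zero Ω q' with hP' | hP'
        · have := (char_eq_expChar_iff Ω q' p).2 hP'
          rwa [← this]
        · subst hP'
          exact absurd (expChar_one_of_char_zero Ω p) hp.ne_one
      have : CharP κ₃ p := (CharP.charP_iff_prime_eq_zero hp).2 (by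
        have hp0 : (p : W) = 0 := Subtype.ext (by simp)
        rw [← map_natCast (IsLocalRing.residue W) p, hp0, map_zero])
      exact ExpChar.prime hp
    let fr : κ₃ →+* κ₃ := frobenius κ₃ p
    have hres : ∀ (x : W) (y : W₂) (c : Fin p → M), evalRoot ι z c = (x : Ω) → ι (F (y : Ω₂)) = powVal ι a c →
        β₂ (IsLocalRing.residue W₂ y) = fr (IsLocalRing.residue W x) := by
      intro x y c hx hy
      show IsLocalRing.ResidueField.map g (IsLocalRing.residue W₂ y) = _
      rw [IsLocalRing.ResidueField.map_residue, frobenius_def, ← map_pow, ← sub_eq_zero, ← map_sub,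
        IsLocalRing.residue_eq_zero_iff, W.valuation_lt_one_iff]
      show W.valuation (ι (F (y : Ω₂)) - (x : Ω) ^ p) < 1
      rw [Valuation.map_sub_swap, hy, ← hx]
      exact h.sub_lt_one hp c (hx ▸ (W.valuation_le_one_iff _).2 x.2)
    -- every residue upstairs comes from below
    have hA : ∀ r : κ₃, fr r ∈ β₂.range := by
      intro r
      obtain ⟨x, rfl⟩ := IsLocalRing.residue_surjective r
      obtain ⟨c, y, hcx, hy⟩ := hcoef' (x : Ω)
      have hyW : y ∈ W₂ := (W.valuation_le_one_iff _).1 (by rw [hy, (hmem₃ _ c hcx).1]; exact (W.valuation_le_one_iff _).2 x.2)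
      exact ⟨IsLocalRing.residue W₂ ⟨y, hyW⟩, hres x ⟨y, hyW⟩ c hcx hy⟩
    let b₂ : κ₂ ≃+* β₂.range := RingEquiv.ofBijective β₂.rangeRestrict
      ⟨fun u v huv => β₂.injective (congrArg Subtype.val huv), β₂.rangeRestrict_surjective⟩
    let e : κ₃ →+* κ₂ := b₂.symm.toRingHom.comp (fr.codRestrict β₂.range hA)
    have hb₂ : ∀ r, β₂ (e r) = fr r := fun r =>
      congrArg Subtype.val (b₂.apply_symm_apply (fr.codRestrict β₂.range hA r))
    -- the residue fields of the bases
    have hB : ∀ r : k₃, e (α₃ r) ∈ α₂.range := by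
      intro r
      obtain ⟨x, rfl⟩ := IsLocalRing.residue_surjective r
      obtain ⟨c, k, hck, hk⟩ := hK₃ (x : K₃)
      have hkW : k ∈ W₂.comap j₂ := (W.valuation_le_one_iff _).1 (by
        rw [hk, (hmem₃ _ c hck).1]; exact (W.valuation_le_one_iff _).2 x.2)
      refine ⟨IsLocalRing.residue _ ⟨k, hkW⟩, β₂.injective ?_⟩
      rw [hb₂, IsLocalRing.ResidueField.map_residue, IsLocalRing.ResidueField.map_residue]
      exact hres (EtRam.inclOfComap W j₃ x) _ c hck hk
    let a₂ : k₂ ≃+* α₂.range := RingEquiv.ofBijective α₂.rangeRestrict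
      ⟨fun u v huv => α₂.injective (congrArg Subtype.val huv), α₂.rangeRestrict_surjective⟩
    let e₀ : k₃ →+* k₂ := a₂.symm.toRingHom.comp ((e.comp α₃).codRestrict α₂.range hB)
    have ha₂ : ∀ r, α₂ (e₀ r) = e (α₃ r) := fun r =>
      congrArg Subtype.val (a₂.apply_symm_apply ((e.comp α₃).codRestrict α₂.range hB r))
    have hsurj : Function.Surjective e₀ := by
      intro r
      obtain ⟨x, rfl⟩ := IsLocalRing.residue_surjective r
      obtain ⟨c, k', hck, hk⟩ := hK₂ (x : K₂)
      have hkW : k' ∈ W.comap j₃ := (W.valuation_le_one_iff _).1 (by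
        rw [← (hmem₃ _ c hck).1, ← hk]; exact (W.valuation_le_one_iff _).2 x.2)
      refine ⟨IsLocalRing.residue _ ⟨k', hkW⟩, α₂.injective (β₂.injective ?_)⟩
      rw [ha₂, hb₂, IsLocalRing.ResidueField.map_residue, IsLocalRing.ResidueField.map_residue]
      exact (hres (EtRam.inclOfComap W j₃ ⟨k', hkW⟩) (EtRam.inclOfComap W₂ j₂ x) c hck hk).symm
    exact geometricallyReduced_transport (RingEquiv.ofBijective e₀ ⟨e₀.injective, hsurj⟩) e fun r => (ha₂ r).symm

end InsepSepLib
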