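import Groth.Agent.MoriLib.DVR
import Groth.Agent.NormalLib.Transfer
import Groth.Agent.SemilocalNormLib.Main
import Groth.Agent.NormalLib.Serre
import Groth.Prelude.Def_EtRam
import Mathlib.RingTheory.AdjoinRoot
import Mathlib.Algebra.CharP.Frobenius

/-! Bounded coefficients of integral elements in a purely inseparable extension. -/

set_option autoImplicit false
universe u

noncomputable section

namespace InsepSepLib

open Polynomial

variable {B L M : Type u} [CommRing B] [IsDomain B] [IsDiscreteValuationRing B] [Field L] [Algebra B L] [IsFractionRing B L]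
  [Field M] [Algebra L M] [FiniteDimensional L M] [Algebra B M] [IsScalarTower B L M]

theorem isN2 (hB : CAlg.IsNagata B) : CAlg.IsN2 B :=
  NormalLib.isN2_of_ringEquiv (RingEquiv.quotientBot B) (hB.2 ⊥)

include L in
theorem finite_closure (hB : CAlg.IsNagata B) : Module.Finite B (integralClosure B M) :=
  SemilocalNormLib.finite_integralClosure_of_isN2 (isN2 hB) L M

/-- The centre of a valuation ring on the integral closure. -/
def centre (W : ValuationSubring M) (hW : ∀ d : integralClosure B M, (d : M) ∈ W) : Ideal (integralClosure B M) :=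
  (IsLocalRing.maximalIdeal W).comap ((integralClosure B M).val.toRingHom.codRestrict W.toSubring hW)

theorem integral_mem (W : ValuationSubring M) (hW : ∀ b : B, algebraMap B M b ∈ W) (d : integralClosure B M) :
    (d : M) ∈ W := by
  have hd : IsIntegral W (d : M) := by
    obtain ⟨q, hq, hqd⟩ := d.2
    let g : B →+* W := (algebraMap B M).codRestrict W.toSubring hW
    refine ⟨q.map g, hq.map g, ?_⟩
    rw [eval₂_map]
    exact hqd
  obtain ⟨w, hw⟩ := IsIntegrallyClosed.isIntegral_iff.1 hd
  exact hw ▸ w.2

include L in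
theorem exists_denominator (hB : CAlg.IsNagata B) (W : ValuationSubring M)
    (hW : EtRam.Dominates B (algebraMap B M) W) (m : M) :
    m ∈ W ↔ ∃ e r : integralClosure B M, W.valuation (e : M) = 1 ∧ (e : M) * m = r := by
  constructor
  swap
  · rintro ⟨e, r, he, her⟩
    refine (W.valuation_le_one_iff m).1 ?_
    have h := (W.valuation_le_one_iff _).2 (integral_mem W hW.1 r)
    rw [← her, map_mul, he, one_mul] at h
    exact h
  intro hm
  have hfin : Module.Finite B (integralClosure B M) := finite_closure (L := L) hB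
  let D := integralClosure B M
  have hDW := integral_mem W hW.1
  have : IsNoetherianRing D :=
    isNoetherianRing_iff.2 (isNoetherian_of_tower B (isNoetherian_of_isNoetherianRing_of_finite B D))
  have : IsFractionRing D M := integralClosure.isFractionRing_of_finite_extension L M
  have : IsIntegrallyClosed D := integralClosure.isIntegrallyClosedOfFiniteExtension L
  let P : Ideal D := centre W hDW
  have : P.IsPrime := Ideal.comap_isPrime _ _
  have hPmem : ∀ d : D, d ∈ P ↔ W.valuation (d : M) < 1 := fun d =>
    W.valuation_lt_one_iff ((integralClosure B M).val.toRingHom.codRestrict W.toSubring hDW d)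
  -- the centre has height one
  have hPB : P.comap (algebraMap B D) = IsLocalRing.maximalIdeal B := by
    refine le_antisymm (IsLocalRing.le_maximalIdeal (Ideal.IsPrime.ne_top inferInstance)) fun b hb => ?_
    rw [Ideal.mem_comap, hPmem]
    exact hW.2 b hb
  have hne : P ≠ ⊥ := fun h => by
    obtain ⟨π, hπ⟩ := IsDiscreteValuationRing.exists_irreducible B
    have h1 : π ∈ P.comap (algebraMap B D) := by rw [hPB]; exact hπ.maximalIdeal_eq ▸ Ideal.mem_span_singleton_self π
    rw [Ideal.mem_comap, h, Ideal.mem_bot] at h1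
    have h2 : algebraMap B M π = 0 := congrArg Subtype.val h1
    rw [IsScalarTower.algebraMap_apply B L M, map_eq_zero, map_eq_zero_iff _ (IsFractionRing.injective B L)] at h2
    exact hπ.ne_zero h2
  have hht : P.height = 1 := by
    have : Ring.KrullDimLE 1 D := Ring.KrullDimLE.mk₁' fun Q hQ _ =>
      Ideal.isMaximal_of_isIntegral_of_isMaximal_comap (R := B) Q
        ((inferInstance : (Q.comap (algebraMap B D)).IsPrime).isMaximal fun h0 => hQ (Ideal.eq_bot_of_comap_eq_bot h0))
    refine le_antisymm ?_ (Order.one_le_iff_ne_zero.2 fun h0 => hne (Ideal.height_eq_zero_iff_eq_bot.1 h0))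
    exact_mod_cast (WithBot.coe_le_coe (b := (1 : ℕ∞))).1 (le_trans (Ideal.height_le_ringKrullDim_of_ne_top (Ideal.IsPrime.ne_top inferInstance))
      (Ring.krullDimLE_iff.1 this))
  have := MoriLib.isDVR_localization P hht
  let R := Localization.AtPrime P
  have : IsDomain R := IsLocalization.isDomain_localization P.primeCompl_le_nonZeroDivisors
  let ψ : R →ₐ[D] M := IsLocalization.liftAlgHom (M := P.primeCompl) (f := Algebra.ofId D M) fun s =>
    isUnit_iff_ne_zero.2 fun e => s.2 ((hPmem _).2 (by simp only [show ((s : D) : M) = 0 from e, map_zero]; exact zero_lt_one))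
  let _ : Algebra R M := ψ.toRingHom.toAlgebra
  have : IsScalarTower D R M := IsScalarTower.of_algebraMap_eq fun r => (ψ.commutes r).symm
  have : IsFractionRing R M := IsFractionRing.isFractionRing_of_isDomain_of_isLocalization P.primeCompl R M
  by_cases hm0 : m = 0
  · exact ⟨1, 0, by simp, by simp [hm0]⟩
  rcases ValuationRing.isInteger_or_isInteger R m with h | h
  · obtain ⟨y, hy⟩ := h
    obtain ⟨r, s, rfl⟩ := IsLocalization.exists_mk'_eq P.primeCompl y
    refine ⟨s, r, le_antisymm ((W.valuation_le_one_iff _).2 (hDW s)) (not_lt.1 fun hlt => s.2 ((hPmem _).2 hlt)), ?_⟩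
    have h1 := congrArg (algebraMap R M) (IsLocalization.mk'_spec R r s)
    rw [map_mul, hy, ← IsScalarTower.algebraMap_apply, ← IsScalarTower.algebraMap_apply] at h1
    rw [mul_comm]; exact h1
  · obtain ⟨y, hy⟩ := h
    obtain ⟨r, s, rfl⟩ := IsLocalization.exists_mk'_eq P.primeCompl y
    have h1 := congrArg (algebraMap R M) (IsLocalization.mk'_spec R r s)
    rw [map_mul, hy, ← IsScalarTower.algebraMap_apply, ← IsScalarTower.algebraMap_apply] at h1
    have hs : W.valuation ((s : D) : M) = 1 :=
      le_antisymm ((W.valuation_le_one_iff _).2 (hDW s)) (not_lt.1 fun hlt => s.2 ((hPmem _).2 hlt))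
    have hv : W.valuation (r : M) = (W.valuation m)⁻¹ := by
      rw [← show m⁻¹ * ((s : D) : M) = (r : M) from h1, map_mul, map_inv₀, hs, mul_one]
    refine ⟨r, s, ?_, ?_⟩
    · refine le_antisymm ((W.valuation_le_one_iff _).2 (hDW r)) ?_
      rw [hv]
      exact (one_le_inv₀ (zero_lt_iff.2 ((_root_.map_ne_zero _).2 hm0))).2 ((W.valuation_le_one_iff m).2 hm)
    · have h2 : m⁻¹ * ((s : D) : M) = (r : M) := h1
      rw [← h2]; field_simp

include L in
theorem finite_dominating (hB : CAlg.IsNagata B) :
    {W : ValuationSubring M | EtRam.Dominates B (algebraMap B M) W}.Finite := by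
  have hfin : Module.Finite B (integralClosure B M) := finite_closure (L := L) hB
  let D := integralClosure B M
  let S := {P : Ideal D | P.IsPrime ∧ P.comap (algebraMap B D) = IsLocalRing.maximalIdeal B}
  have hS : S.Finite := (Algebra.QuasiFinite.finite_primesOver (S := D) (IsLocalRing.maximalIdeal B)).subset
    fun P hP => ⟨hP.1, ⟨hP.2.symm⟩⟩
  let cen : ValuationSubring M → Ideal D := fun W => open Classical in
    if h : ∀ d : D, (d : M) ∈ W then centre W h else ⊥
  have hcen : ∀ W, EtRam.Dominates B (algebraMap B M) W → ∀ d : D, d ∈ cen W ↔ W.valuation (d : M) < 1 := fun W hW d => by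
    have e : cen W = centre W (integral_mem W hW.1) := dif_pos (integral_mem W hW.1)
    rw [e]
    exact W.valuation_lt_one_iff ((integralClosure B M).val.toRingHom.codRestrict W.toSubring (integral_mem W hW.1) d)
  refine Set.Finite.of_finite_image (f := cen) (hS.subset ?_) fun W hW W' hW' he => ?_
  · rintro _ ⟨W, hW, rfl⟩
    have hp : (cen W).IsPrime := by
      have e : cen W = centre W (integral_mem W hW.1) := dif_pos (integral_mem W hW.1)
      rw [e]
      exact Ideal.comap_isPrime _ _
    refine ⟨hp, le_antisymm (IsLocalRing.le_maximalIdeal (Ideal.IsPrime.ne_top inferInstance)) fun b hb => ?_⟩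
    rw [Ideal.mem_comap, hcen W hW]
    exact hW.2 b hb
  · refine SetLike.ext fun m => ?_
    rw [exists_denominator (L := L) hB W hW, exists_denominator (L := L) hB W' hW']
    have : ∀ e : D, W.valuation (e : M) = 1 ↔ W'.valuation (e : M) = 1 := fun e => by
      have h1 := hcen W hW e
      rw [he, hcen W' hW' e] at h1
      have a1 := (W.valuation_le_one_iff _).2 (integral_mem W hW.1 e)
      have a2 := (W'.valuation_le_one_iff _).2 (integral_mem W' hW'.1 e)
      exact ⟨fun h => le_antisymm a2 (not_lt.1 fun hl => ((h1.1 hl).ne h)),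
        fun h => le_antisymm a1 (not_lt.1 fun hl => ((h1.2 hl).ne h))⟩
    simp only [this]

include L in
theorem exists_pow_mul_mem {π : B} (hπ : Irreducible π) (W : ValuationSubring M)
    (hW : EtRam.Dominates B (algebraMap B M) W) (m : M) : ∃ t : ℕ, algebraMap B M π ^ t * m ∈ W := by
  have hm : IsAlgebraic B m := (IsFractionRing.isAlgebraic_iff B L M).2 (Algebra.IsAlgebraic.isAlgebraic m)
  obtain ⟨b, hb, hint⟩ := hm.exists_integral_multiple
  obtain ⟨t, u, rfl⟩ := IsDiscreteValuationRing.eq_unit_mul_pow_irreducible hb hπ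
  refine ⟨t, ?_⟩
  have h : algebraMap B M π ^ t * m = algebraMap B M (u⁻¹ : Bˣ) * ((u : B) * π ^ t) • m := by
    rw [Algebra.smul_def, ← mul_assoc, ← map_mul, ← mul_assoc, Units.inv_mul, one_mul, map_pow]
  rw [h]
  exact W.mul_mem _ _ (hW.1 _) (integral_mem W hW.1 ⟨_, hint⟩)

variable {p : ℕ} [ExpChar M p] (hp : p.Prime)
include hp L

/-- The coefficient bound. -/
theorem exists_bound (hB : CAlg.IsNagata B) {π : B} (hπ : Irreducible π) (a : M) (ha : ∀ b : M, b ^ p ≠ a)
    (W : ValuationSubring M) (hW : EtRam.Dominates B (algebraMap B M) W) :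
    ∃ s : ℕ, ∀ c : Fin p → M, (∑ i : Fin p, c i ^ p * a ^ (i : ℕ)) ∈ W → ∀ i, algebraMap B M π ^ s * c i ∈ W := by
  classical
  have hirr : Irreducible (X ^ p - C a) := X_pow_sub_C_irreducible_of_prime hp ha
  have := Fact.mk hirr
  let Ω := AdjoinRoot (X ^ p - C a)
  let θ : Ω := AdjoinRoot.root _
  have : FiniteDimensional M Ω := (monic_X_pow_sub_C a hp.ne_zero).finite_adjoinRoot
  have : FiniteDimensional L Ω := Module.Finite.trans M Ω
  have : IsScalarTower B L Ω := IsScalarTower.of_algebraMap_eq fun b => by
    rw [IsScalarTower.algebraMap_apply B M Ω, IsScalarTower.algebraMap_apply B L M, ← IsScalarTower.algebraMap_apply L M Ω]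
  have hfin : Module.Finite B (integralClosure B Ω) :=
    SemilocalNormLib.finite_integralClosure_of_isN2 (isN2 hB) L Ω
  obtain ⟨G, hG⟩ := hfin.fg_top
  let pb := AdjoinRoot.powerBasis (f := X ^ p - C a) hirr.ne_zero
  have hdim : pb.dim = p := by rw [AdjoinRoot.powerBasis_dim, natDegree_X_pow_sub_C]
  let φ : Fin p → Ω →ₗ[M] M := fun i =>
    (LinearMap.proj (Fin.cast hdim.symm i)).comp pb.basis.equivFun.toLinearMap
  have ht : ∀ (g : integralClosure B Ω) (i : Fin p), ∃ t : ℕ, algebraMap B M π ^ t * φ i g ∈ W := fun g i =>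
    exists_pow_mul_mem (L := L) hπ W hW _
  choose t ht using ht
  let s := G.sup fun g => Finset.univ.sup (t g)
  have hπW : algebraMap B M π ∈ W := hW.1 π
  have hs : ∀ (y : integralClosure B Ω) (i : Fin p), algebraMap B M π ^ s * φ i y ∈ W := by
    intro y i
    have hy : y ∈ Submodule.span B (G : Set (integralClosure B Ω)) := by rw [hG]; exact Submodule.mem_top
    induction hy using Submodule.span_induction with
    | mem g hg =>
      have hle : t g i ≤ s := le_trans (Finset.le_sup (f := t g) (Finset.mem_univ i)) (Finset.le_sup (f := fun g => Finset.univ.sup (t g)) hg)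
      rw [show s = (s - t g i) + t g i by omega, pow_add, mul_assoc]
      exact W.mul_mem _ _ (pow_mem hπW _) (ht g i)
    | zero => simp [W.zero_mem]
    | add x z _ _ hx hz => rw [Subalgebra.coe_add, map_add, mul_add]; exact W.add_mem _ _ hx hz
    | smul b z _ hz =>
      rw [SetLike.val_smul, ← IsScalarTower.algebraMap_smul M b (z : Ω), map_smul, smul_eq_mul, mul_left_comm]
      exact W.mul_mem _ _ (hW.1 b) hz
  refine ⟨s, fun c hc i => ?_⟩
  obtain ⟨e, r, he, her⟩ := (exists_denominator (L := L) hB W hW _).1 hc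
  have : ExpChar Ω p := expChar_of_injective_algebraMap (algebraMap M Ω).injective p
  let y : Ω := ∑ i : Fin p, algebraMap M Ω (c i) * θ ^ (i : ℕ)
  have hθ : θ ^ p = algebraMap M Ω a := by
    have := AdjoinRoot.eval₂_root (X ^ p - C a)
    simp only [eval₂_sub, eval₂_pow, eval₂_X, eval₂_C, sub_eq_zero] at this
    exact this
  have hy : y ^ p = algebraMap M Ω (∑ i : Fin p, c i ^ p * a ^ (i : ℕ)) := by
    simp only [y, sum_pow_char, mul_pow, map_sum, map_mul, map_pow]
    exact Finset.sum_congr rfl fun i _ => by rw [← pow_mul, mul_comm (i : ℕ) p, pow_mul, hθ]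
  have hint : IsIntegral B (algebraMap M Ω (e : M) * y) := by
    refine IsIntegral.of_pow hp.pos ?_
    rw [mul_pow, hy, ← map_pow, ← map_mul, show (e : M) ^ p = (e : M) ^ (p - 1) * e by
      rw [← pow_succ]; congr 1; have := hp.pos; omega, mul_assoc, her]
    exact (IsIntegral.mul ((IsIntegral.pow e.2) _) r.2).algebraMap
  have h := hs ⟨_, hint⟩ i
  have hφ : φ i (algebraMap M Ω (e : M) * y) = (e : M) * c i := by
    have hsum : algebraMap M Ω (e : M) * y = ∑ j : Fin p, ((e : M) * c j) • pb.basis (Fin.cast hdim.symm j) := by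
      rw [Finset.mul_sum]
      refine Finset.sum_congr rfl fun j _ => ?_
      rw [PowerBasis.coe_basis, Algebra.smul_def, map_mul, mul_assoc]
      rfl
    rw [hsum, map_sum, Finset.sum_eq_single i]
    · simp only [map_smul, φ, LinearMap.comp_apply, LinearEquiv.coe_coe, LinearMap.proj_apply, Module.Basis.equivFun_self]
      simp
    · intro j _ hne
      simp only [map_smul, φ, LinearMap.comp_apply, LinearEquiv.coe_coe, LinearMap.proj_apply, Module.Basis.equivFun_self]
      simp [Fin.ext_iff, Fin.val_ne_iff.2 hne]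
    · intro hn; exact absurd (Finset.mem_univ i) hn
  rw [hφ, mul_left_comm] at h
  have h1 := (W.valuation_le_one_iff _).2 h
  rw [map_mul, he, one_mul] at h1
  exact (W.valuation_le_one_iff _).1 h1

end InsepSepLib
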