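import Groth.Agent.S7151
import Mathlib.FieldTheory.PurelyInseparable.Tower
import Mathlib.FieldTheory.Perfect

/-! Separable solutions from solutions. -/

set_option autoImplicit false
universe u

noncomputable section

namespace InsepSepLib

theorem exists_degree_prime_step {F E : Type u} [Field F] [Field E] [Algebra F E] [FiniteDimensional F E]
    [IsPurelyInseparable F E] (p : ℕ) [ExpChar F p] (hne : Module.finrank F E ≠ 1) :
    ∃ F₁ : IntermediateField F E, Module.finrank F₁ E = p ∧ IsPurelyInseparable F₁ E := by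
  classical
  have hbot : (⊥ : IntermediateField F E) ≠ ⊤ := fun h => hne (by
    have h2 := IntermediateField.finrank_top' (F := F) (E := E)
    rw [← h, IntermediateField.finrank_bot] at h2
    exact h2.symm)
  have hbdd : ∃ m, (∃ G : IntermediateField F E, G ≠ ⊤ ∧ Module.finrank F G = m) ∧
      ∀ G : IntermediateField F E, G ≠ ⊤ → Module.finrank F G ≤ m := by
    let P : ℕ → Prop := fun m => ∃ G : IntermediateField F E, G ≠ ⊤ ∧ Module.finrank F G = m
    have hle : ∀ G : IntermediateField F E, Module.finrank F G ≤ Module.finrank F E := fun G =>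
      Submodule.finrank_le (Subalgebra.toSubmodule G.toSubalgebra)
    refine ⟨Nat.findGreatest P (Module.finrank F E), Nat.findGreatest_spec (P := P) (hle ⊥) ⟨⊥, hbot, rfl⟩,
      fun G hG => Nat.le_findGreatest (hle G) ⟨G, hG, rfl⟩⟩
  obtain ⟨m, ⟨F₁, hF₁, rfl⟩, hmax⟩ := hbdd
  have : IsPurelyInseparable F₁ E := IsPurelyInseparable.tower_top F F₁ E
  have : ExpChar F₁ p := expChar_of_injective_algebraMap (algebraMap F F₁).injective p
  obtain ⟨x, -, hx⟩ := SetLike.exists_of_lt (lt_top_iff_ne_top.2 hF₁)
  have hex : ∃ n, x ^ p ^ n ∈ F₁ := by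
    obtain ⟨n, y, hy⟩ := IsPurelyInseparable.pow_mem F₁ p x
    exact ⟨n, hy ▸ y.2⟩
  obtain ⟨n, hn⟩ : ∃ n, Nat.find hex = n + 1 := Nat.exists_eq_succ_of_ne_zero fun h0 => hx (by
    simpa [h0] using Nat.find_spec hex)
  let y := x ^ p ^ n
  have hy : y ∉ F₁ := Nat.find_min hex (by omega)
  have hyp : y ^ p ∈ F₁ := by
    have := Nat.find_spec hex
    rwa [hn, pow_succ, pow_mul] at this
  have hp : p.Prime := (expChar_is_prime_or_one F p).resolve_right fun h1 => hy (by
    have h := hyp
    rw [h1, pow_one] at h
    exact h)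
  have hGtop : IntermediateField.adjoin F₁ ({y} : Set E) = ⊤ := by
    by_contra hne'
    let G := (IntermediateField.adjoin F₁ ({y} : Set E)).restrictScalars F
    have hlt : F₁ < G := by
      refine lt_of_le_of_ne (fun z hz => ?_) fun e => hy ?_
      · show z ∈ IntermediateField.adjoin F₁ ({y} : Set E)
        exact IntermediateField.algebraMap_mem _ (⟨z, hz⟩ : F₁)
      · rw [e]; exact IntermediateField.mem_adjoin_simple_self F₁ y
    have h1 := hmax G fun e => hne' (IntermediateField.restrictScalars_injective F (e.trans (by simp)))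
    exact hlt.ne (IntermediateField.eq_of_le_of_finrank_le hlt.le h1)
  have hirr : Irreducible (Polynomial.X ^ p - Polynomial.C (⟨_, hyp⟩ : F₁)) := X_pow_sub_C_irreducible_of_prime hp fun b hb => hy (by
    have : ExpChar E p := expChar_of_injective_algebraMap (algebraMap F E).injective p
    have h1 : (b : E) ^ p = y ^ p := congrArg Subtype.val hb
    have h2 : (b : E) = y := by
      rw [← sub_eq_zero]
      refine pow_eq_zero_iff hp.ne_zero |>.1 ?_
      rw [sub_pow_expChar, h1, sub_self]
    rw [← h2]; exact b.2)
  refine ⟨F₁, ?_, inferInstance⟩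
  have hint : IsIntegral F₁ y := IsIntegral.of_finite F₁ y
  have h := IntermediateField.adjoin.finrank hint
  rw [hGtop, IntermediateField.finrank_top'] at h
  rw [h, ← minpoly.eq_of_irreducible_of_monic hirr (by simp [IntermediateField.algebraMap_apply]) (Polynomial.monic_X_pow_sub_C _ hp.ne_zero),
    Polynomial.natDegree_X_pow_sub_C]

variable (A B K L : Type u) [CommRing A] [IsDomain A] [IsDiscreteValuationRing A]
  [CommRing B] [IsDomain B] [IsDiscreteValuationRing B] [Algebra A B] [IsLocalHom (algebraMap A B)]
  [Field K] [Field L] [Algebra A K] [IsFractionRing A K] [Algebra B L] [IsFractionRing B L]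
  [Algebra K L] [Algebra A L] [IsScalarTower A K L] [IsScalarTower A B L]

theorem exists_separable_solution (hinj : Function.Injective (algebraMap A B)) [Algebra.IsGeometricallyReduced K L]
    (hB : CAlg.IsNagata B) (K₂ : Type u) [Field K₂] [Algebra K K₂] [FiniteDimensional K K₂]
    (h₂ : EtRam.IsSolution B K L K₂) :
    ∃ (K₃ : Type u) (_ : Field K₃) (_ : Algebra K K₃) (_ : FiniteDimensional K K₃) (_ : Algebra.IsSeparable K K₃),
      EtRam.IsSolution B K L K₃ := by
  obtain ⟨p, hexp⟩ := ExpChar.exists (R := K)
  induction hn : Field.finInsepDegree K K₂ using Nat.strong_induction_on generalizing K₂ with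
  | _ n ih =>
    by_cases hs : Algebra.IsSeparable K K₂
    · exact ⟨K₂, inferInstance, inferInstance, inferInstance, hs, h₂⟩
    let S := separableClosure K K₂
    have : ExpChar S p := expChar_of_injective_algebraMap (algebraMap K S).injective p
    obtain ⟨F₁, hdeg, hpi⟩ := exists_degree_prime_step (F := S) (E := K₂) p (fun h1 => hs (by
      rw [isSeparable_iff_finInsepDegree_eq_one]; exact h1))
    have hp : p.Prime := (expChar_is_prime_or_one K p).resolve_right fun h1 => by
      subst h1
      have : CharZero K := charZero_of_expChar_one' K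
      exact hs inferInstance
    have : CharP K p := by
      obtain ⟨q, hq⟩ := CharP.exists K
      rcases CharP.char_is_prime_or_zero K q with hq' | hq'
      · have := (char_eq_expChar_iff K q p).2 hq'
        rwa [← this]
      · subst hq'
        exact absurd (expChar_one_of_char_zero K p) hp.ne_one
    have : Fact p.Prime := ⟨hp⟩
    let K₁ := F₁.restrictScalars K
    have : IsPurelyInseparable K₁ K₂ := hpi
    have hfr : Module.finrank K₁ K₂ = p := hdeg
    obtain ⟨K₃, _, _, _, _, _, hsep, hsol⟩ :=
      Groth.Agent.S7151.result p hp A B K L hinj hB K₁ K₂ h₂ hfr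
    have : FiniteDimensional K K₃ := Module.Finite.trans K₁ K₃
    refine ih (Field.finInsepDegree K K₃) ?_ K₃ hsol rfl
    have e₁ := Field.finInsepDegree_mul_finInsepDegree_of_isAlgebraic K K₁ K₃
    have e₂ := Field.finInsepDegree_mul_finInsepDegree_of_isAlgebraic K K₁ K₂
    rw [(isSeparable_iff_finInsepDegree_eq_one K₁ K₃).1 hsep, mul_one] at e₁
    rw [IsPurelyInseparable.finInsepDegree_eq K₁ K₂, hfr] at e₂
    rw [← hn, ← e₂, ← e₁]
    obtain ⟨j, hj⟩ := finInsepDegree_eq_pow K K₁ p
    exact lt_mul_right (hj ▸ pow_pos hp.pos j) hp.one_lt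

end InsepSepLib
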